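import Cfsg.Agent.EqLemmas

/-!
The coset graph of two subgroups: adjacency, stabilizers, connectivity, the fixed point argument, and the
basic facts on `Q_δ`, `Z_δ` and Sylow subgroups of vertex and edge stabilizers in an amalgam pair of
characteristic `p`.

Main results: `adj_cases`, `connected`, `exists_mem_stabilizer_smul_eq`, `eq_bot_of_transitive`, `IsSylowIn`,
`isSylowIn_vertex`, `centralizer_le_vertexQ`, `vertexQ_le_neighbourKernel`, `vertexZ_le_neighbourKernel`,
`exists_adj_dist`.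
-/

set_option autoImplicit false
set_option linter.unusedSectionVars false

namespace Cfsg.Agent.Amalgam

open Cfsg MulAction

variable {X : Type*} [Group X] {M₁ M₂ : Subgroup X}

/-- The base vertex `M₁`. -/
abbrev baseL (M₁ M₂ : Subgroup X) : CosetVertex M₁ M₂ := Sum.inl ((1 : X) : X ⧸ M₁)

/-- The base vertex `M₂`. -/
abbrev baseR (M₁ M₂ : Subgroup X) : CosetVertex M₁ M₂ := Sum.inr ((1 : X) : X ⧸ M₂)

theorem smul_baseL (x : X) : x • baseL M₁ M₂ = Sum.inl (x : X ⧸ M₁) := by
  simp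

theorem smul_baseR (x : X) : x • baseR M₁ M₂ = Sum.inr (x : X ⧸ M₂) := by
  simp

theorem stabilizer_baseL : stabilizer X (baseL M₁ M₂) = M₁ := by
  ext g; simp [mem_stabilizer_iff, QuotientGroup.eq]

theorem stabilizer_baseR : stabilizer X (baseR M₁ M₂) = M₂ := by
  ext g; simp [mem_stabilizer_iff, QuotientGroup.eq]

theorem adj_iff {a b : CosetVertex M₁ M₂} : (cosetGraph M₁ M₂).Adj a b ↔
    ∃ x : X, (a = x • baseL M₁ M₂ ∧ b = x • baseR M₁ M₂) ∨
      (a = x • baseR M₁ M₂ ∧ b = x • baseL M₁ M₂) := by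
  simp only [cosetGraph, SimpleGraph.fromRel_adj, smul_baseL, smul_baseR]
  constructor
  · rintro ⟨-, ⟨x, h₁, h₂⟩ | ⟨x, h₁, h₂⟩⟩
    · exact ⟨x, .inl ⟨h₁, h₂⟩⟩
    · exact ⟨x, .inr ⟨h₂, h₁⟩⟩
  · rintro ⟨x, ⟨rfl, rfl⟩ | ⟨rfl, rfl⟩⟩
    · exact ⟨by simp, .inl ⟨x, rfl, rfl⟩⟩
    · exact ⟨by simp, .inr ⟨x, rfl, rfl⟩⟩

theorem adj_base : (cosetGraph M₁ M₂).Adj (baseL M₁ M₂) (baseR M₁ M₂) :=
  adj_iff.2 ⟨1, .inl ⟨(one_smul _ _).symm, (one_smul _ _).symm⟩⟩

theorem adj_smul (g : X) {a b : CosetVertex M₁ M₂} (h : (cosetGraph M₁ M₂).Adj a b) :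
    (cosetGraph M₁ M₂).Adj (g • a) (g • b) := by
  obtain ⟨x, ⟨rfl, rfl⟩ | ⟨rfl, rfl⟩⟩ := adj_iff.1 h
  · exact adj_iff.2 ⟨g * x, .inl ⟨smul_smul _ _ _, smul_smul _ _ _⟩⟩
  · exact adj_iff.2 ⟨g * x, .inr ⟨smul_smul _ _ _, smul_smul _ _ _⟩⟩

theorem reachable_smul (g : X) {a b : CosetVertex M₁ M₂} (h : (cosetGraph M₁ M₂).Reachable a b) :
    (cosetGraph M₁ M₂).Reachable (g • a) (g • b) :=
  h.map (⟨(g • ·), adj_smul g⟩ : cosetGraph M₁ M₂ →g cosetGraph M₁ M₂)

/-- The coset graph of a generating pair is connected. -/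
theorem connected (hgen : M₁ ⊔ M₂ = ⊤) : (cosetGraph M₁ M₂).Connected := by
  have key : ∀ g : X, (cosetGraph M₁ M₂).Reachable (baseL M₁ M₂) (g • baseL M₁ M₂) := by
    intro g
    have hg : g ∈ Subgroup.closure ((M₁ : Set X) ∪ M₂) := by
      rw [Subgroup.closure_union, Subgroup.closure_eq, Subgroup.closure_eq, hgen]; trivial
    induction hg using Subgroup.closure_induction with
    | mem g hg =>
      rcases hg with hg | hg
      · have : g • baseL M₁ M₂ = baseL M₁ M₂ := by
          rw [← mem_stabilizer_iff, stabilizer_baseL]; exact hg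
        rw [this]
      · have h2 : g • baseR M₁ M₂ = baseR M₁ M₂ := by
          rw [← mem_stabilizer_iff, stabilizer_baseR]; exact hg
        have h := (adj_smul g (adj_base (M₁ := M₁) (M₂ := M₂))).reachable
        rw [h2] at h
        exact adj_base.reachable.trans h.symm
    | one => rw [one_smul]
    | mul x y _ _ hx hy => rw [mul_smul]; exact hx.trans (reachable_smul x hy)
    | inv x _ hx =>
      have h := reachable_smul x⁻¹ hx
      rw [inv_smul_smul] at h
      exact h.symm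
  rw [SimpleGraph.connected_iff_exists_forall_reachable]
  refine ⟨baseL M₁ M₂, fun v => ?_⟩
  rcases v with q | q <;> induction q using QuotientGroup.induction_on with | H x => ?_
  · rw [← smul_baseL]; exact key x
  · rw [← smul_baseR]; exact (key x).trans (adj_smul x adj_base).reachable

theorem stabilizer_smul' (g : X) (v : CosetVertex M₁ M₂) :
    stabilizer X (g • v) = (stabilizer X v).map (MulAut.conj g).toMonoidHom :=
  stabilizer_smul_eq_stabilizer_map_conj g v

theorem edgeStabilizer_smul (g : X) (v w : CosetVertex M₁ M₂) :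
    edgeStabilizer (g • v) (g • w) = (edgeStabilizer v w).map (MulAut.conj g).toMonoidHom := by
  rw [edgeStabilizer, edgeStabilizer, stabilizer_smul', stabilizer_smul',
    Subgroup.map_inf _ _ _ (MulAut.conj g).injective]

theorem edgeStabilizer_base : edgeStabilizer (baseL M₁ M₂) (baseR M₁ M₂) = M₁ ⊓ M₂ := by
  rw [edgeStabilizer, stabilizer_baseL, stabilizer_baseR]

theorem edgeStabilizer_base' : edgeStabilizer (baseR M₁ M₂) (baseL M₁ M₂) = M₁ ⊓ M₂ := by
  rw [edgeStabilizer, stabilizer_baseL, stabilizer_baseR, inf_comm]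

/-- The stabilizer of a vertex is transitive on its neighbours. -/
theorem exists_mem_stabilizer_smul_eq {δ μ μ' : CosetVertex M₁ M₂}
    (hμ : (cosetGraph M₁ M₂).Adj δ μ) (hμ' : (cosetGraph M₁ M₂).Adj δ μ') :
    ∃ g ∈ stabilizer X δ, g • μ = μ' := by
  obtain ⟨a, ha⟩ := adj_iff.1 hμ
  obtain ⟨b, hb⟩ := adj_iff.1 hμ'
  refine ⟨b * a⁻¹, ?_⟩
  rcases ha with ⟨rfl, rfl⟩ | ⟨rfl, rfl⟩ <;> rcases hb with ⟨h₁, rfl⟩ | ⟨h₁, rfl⟩
  · exact ⟨by rw [mem_stabilizer_iff, mul_smul, inv_smul_smul, ← h₁], by rw [mul_smul, inv_smul_smul]⟩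
  · simp at h₁
  · simp at h₁
  · exact ⟨by rw [mem_stabilizer_iff, mul_smul, inv_smul_smul, ← h₁], by rw [mul_smul, inv_smul_smul]⟩

/-- Every vertex is a translate of `δ` or `μ` under a group transitive at both ends of the edge. -/
theorem exists_translate (hconn : (cosetGraph M₁ M₂).Connected) {δ μ : CosetVertex M₁ M₂}
    (hδμ : (cosetGraph M₁ M₂).Adj δ μ) (H : Subgroup X)
    (hδ : ∀ ν ν', (cosetGraph M₁ M₂).Adj δ ν → (cosetGraph M₁ M₂).Adj δ ν' →
      ∃ g ∈ H ⊓ stabilizer X δ, g • ν = ν')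
    (hμ : ∀ ν ν', (cosetGraph M₁ M₂).Adj μ ν → (cosetGraph M₁ M₂).Adj μ ν' →
      ∃ g ∈ H ⊓ stabilizer X μ, g • ν = ν')
    (v : CosetVertex M₁ M₂) : ∃ h ∈ H, v = h • δ ∨ v = h • μ := by
  have hr := (SimpleGraph.reachable_iff_reflTransGen δ v).1 (hconn δ v)
  induction hr with
  | refl => exact ⟨1, H.one_mem, .inl (one_smul _ _).symm⟩
  | @tail b c _ hbc ih =>
    obtain ⟨h, hh, rfl | rfl⟩ := ih
    · have hadj := adj_smul h⁻¹ hbc
      rw [inv_smul_smul] at hadj
      obtain ⟨g, hg, hgc⟩ := hδ μ _ hδμ hadj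
      exact ⟨h * g, H.mul_mem hh hg.1, .inr (by rw [mul_smul, hgc, smul_inv_smul])⟩
    · have hadj := adj_smul h⁻¹ hbc
      rw [inv_smul_smul] at hadj
      obtain ⟨g, hg, hgc⟩ := hμ δ _ hδμ.symm hadj
      exact ⟨h * g, H.mul_mem hh hg.1, .inl (by rw [mul_smul, hgc, smul_inv_smul])⟩

/-- A subgroup fixing every vertex is trivial when the pair has no common normal subgroup. -/
theorem eq_bot_of_fixes_all (hcore : ∀ N : Subgroup X, N ≤ M₁ ⊓ M₂ → N.Normal → N = ⊥)
    {T : Subgroup X} (hT : ∀ v : CosetVertex M₁ M₂, T ≤ stabilizer X v) : T = ⊥ := by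
  let N : Subgroup X := ⨅ v : CosetVertex M₁ M₂, stabilizer X v
  have hN : N ≤ M₁ ⊓ M₂ := by
    refine le_inf ?_ ?_
    · exact (iInf_le _ (baseL M₁ M₂)).trans stabilizer_baseL.le
    · exact (iInf_le _ (baseR M₁ M₂)).trans stabilizer_baseR.le
  have hn : N.Normal := ⟨fun n hn g => by
    simp only [N, Subgroup.mem_iInf, mem_stabilizer_iff] at hn ⊢
    intro v
    rw [mul_smul, mul_smul, hn, smul_inv_smul]⟩
  exact le_bot_iff.1 ((le_iInf hT).trans (hcore N hN hn).le)

/-- A subgroup of an edge stabilizer normalized by a group transitive at both ends is trivial. -/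
theorem eq_bot_of_transitive (hgen : M₁ ⊔ M₂ = ⊤)
    (hcore : ∀ N : Subgroup X, N ≤ M₁ ⊓ M₂ → N.Normal → N = ⊥) {δ μ : CosetVertex M₁ M₂}
    (hδμ : (cosetGraph M₁ M₂).Adj δ μ) {T H : Subgroup X} (hH : H ≤ Subgroup.normalizer (T : Set X))
    (hT : T ≤ edgeStabilizer δ μ)
    (hδ : ∀ ν ν', (cosetGraph M₁ M₂).Adj δ ν → (cosetGraph M₁ M₂).Adj δ ν' →
      ∃ g ∈ H ⊓ stabilizer X δ, g • ν = ν')
    (hμ : ∀ ν ν', (cosetGraph M₁ M₂).Adj μ ν → (cosetGraph M₁ M₂).Adj μ ν' →
      ∃ g ∈ H ⊓ stabilizer X μ, g • ν = ν') : T = ⊥ := by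
  refine eq_bot_of_fixes_all hcore (M₁ := M₁) (M₂ := M₂) fun v t ht => ?_
  obtain ⟨h, hh, hv⟩ := exists_translate (connected hgen) hδμ H hδ hμ v
  have hc := (Subgroup.le_normalizer_iff.1 hH) h⁻¹ (H.inv_mem hh) t ht
  rw [inv_inv] at hc
  rw [mem_stabilizer_iff]
  have key : ∀ w : CosetVertex M₁ M₂, (h⁻¹ * t * h) • w = w → t • h • w = h • w := fun w hw => by
    rw [mul_smul, mul_smul, inv_smul_eq_iff] at hw; exact hw
  rcases hv with rfl | rfl
  · exact key δ (hT hc).1
  · exact key μ (hT hc).2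

/-! ### Sylow subgroups of subgroups, `pCoreOf`, `sylowCenterClosure` -/

/-- `T` is a Sylow `p`-subgroup of the subgroup `H`, stated by orders. -/
def IsSylowIn (p : ℕ) (T H : Subgroup X) : Prop :=
  T ≤ H ∧ Nat.card T = p ^ (Nat.card H).factorization p

/-- `Ω₁(Z(T))` of a subgroup `T`. -/
abbrev omegaZ (p : ℕ) (T : Subgroup X) : Subgroup X :=
  omegaOne p (T ⊓ Subgroup.centralizer (T : Set X))

variable {p : ℕ} [Fact p.Prime]

theorem IsSylowIn.isPGroup {T H : Subgroup X} (h : IsSylowIn p T H) : IsPGroup p T :=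
  IsPGroup.of_card h.2

theorem isSylowIn_of_sylow {H : Subgroup X} [Finite H] (S : Sylow p H) :
    IsSylowIn p ((S : Subgroup H).map H.subtype) H :=
  ⟨Subgroup.map_subtype_le _, by
    rw [Subgroup.card_map_of_injective H.subtype_injective]; exact S.card_eq_multiplicity⟩

theorem IsSylowIn.exists_sylow {T H : Subgroup X} [Finite H] (h : IsSylowIn p T H) :
    ∃ S : Sylow p H, (S : Subgroup H).map H.subtype = T := by
  have hc : Nat.card (T.subgroupOf H) = p ^ (Nat.card H).factorization p := by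
    rw [Nat.card_congr (Subgroup.subgroupOfEquivOfLe h.1).toEquiv]; exact h.2
  exact ⟨Sylow.ofCard _ hc, by rw [Sylow.coe_ofCard, Subgroup.map_subgroupOf_eq_of_le h.1]⟩

theorem IsSylowIn.map {T H : Subgroup X} (h : IsSylowIn p T H) (e : X ≃* X) :
    IsSylowIn p (T.map e.toMonoidHom) (H.map e.toMonoidHom) :=
  ⟨Subgroup.map_mono h.1, by
    rw [Subgroup.card_map_of_injective e.injective, Subgroup.card_map_of_injective e.injective]
    exact h.2⟩

omit [Fact p.Prime] in
theorem pCore_isNormal (G : Type*) [Group G] : (pCore p G).Normal := by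
  refine ⟨fun n hn g => ?_⟩
  have hle : pCore p G ≤ (pCore p G).comap (MulAut.conj g).toMonoidHom :=
    sSup_le fun N hN x hx => Subgroup.mem_comap.2 (le_sSup hN (hN.1.conj_mem x hx g))
  exact hle hn

omit [Fact p.Prime] in
theorem pCore_le_sylow {G : Type*} [Group G] (S : Sylow p G) : pCore p G ≤ (S : Subgroup G) :=
  sSup_le fun N hN => by
    have := hN.1
    exact hN.2.le_sylow_of_normal S

omit [Fact p.Prime] in
theorem pCoreOf_isPGroup (H : Subgroup X) : IsPGroup p (pCoreOf p H) := by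
  obtain ⟨S⟩ : Nonempty (Sylow p H) := inferInstance
  exact (S.isPGroup'.to_le (pCore_le_sylow S)).map H.subtype

omit [Fact p.Prime] in
theorem pCoreOf_le (H : Subgroup X) : pCoreOf p H ≤ H := Subgroup.map_subtype_le _

omit [Fact p.Prime] in
theorem le_normalizer_pCoreOf (H : Subgroup X) :
    H ≤ Subgroup.normalizer (pCoreOf p H : Set X) := by
  rw [← Subgroup.normal_subgroupOf_iff_le_normalizer (pCoreOf_le H), pCoreOf, Subgroup.subgroupOf,
    Subgroup.comap_map_eq_self_of_injective H.subtype_injective]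
  exact pCore_isNormal _

omit [Fact p.Prime] in
theorem le_pCoreOf {N H : Subgroup X} (hN : N ≤ H) (hH : H ≤ Subgroup.normalizer (N : Set X))
    (hp : IsPGroup p N) : N ≤ pCoreOf p H := by
  have h1 : N.subgroupOf H ≤ pCore p H :=
    le_sSup ⟨(Subgroup.normal_subgroupOf_iff_le_normalizer hN).2 hH,
      hp.of_equiv (Subgroup.subgroupOfEquivOfLe hN).symm⟩
  rw [← Subgroup.map_subgroupOf_eq_of_le hN]
  exact Subgroup.map_mono h1

omit [Fact p.Prime] in
theorem map_pCoreOf_le (e : X ≃* X) (H : Subgroup X) :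
    (pCoreOf p H).map e.toMonoidHom ≤ pCoreOf p (H.map e.toMonoidHom) :=
  le_pCoreOf (Subgroup.map_mono (pCoreOf_le H))
    ((Subgroup.map_mono (le_normalizer_pCoreOf H)).trans (Subgroup.le_normalizer_map _))
    ((pCoreOf_isPGroup H).map _)

omit [Fact p.Prime] in
theorem pCoreOf_map (e : X ≃* X) (H : Subgroup X) :
    pCoreOf p (H.map e.toMonoidHom) = (pCoreOf p H).map e.toMonoidHom := by
  refine le_antisymm (fun x hx => ?_) (map_pCoreOf_le e H)
  have h := map_pCoreOf_le (p := p) e.symm (H.map e.toMonoidHom) (Subgroup.mem_map_of_mem _ hx)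
  have hid : (H.map e.toMonoidHom).map e.symm.toMonoidHom = H := by
    ext y; simp
  rw [hid] at h
  exact Subgroup.mem_map_equiv.2 h

theorem IsSylowIn.pCoreOf_le {T H : Subgroup X} [Finite H] (h : IsSylowIn p T H) :
    pCoreOf p H ≤ T := by
  obtain ⟨S, rfl⟩ := h.exists_sylow
  exact Subgroup.map_mono (pCore_le_sylow S)

omit [Fact p.Prime] in
theorem map_omegaZ_le (e : X ≃* X) (T : Subgroup X) :
    (omegaZ p T).map e.toMonoidHom ≤ omegaZ p (T.map e.toMonoidHom) := by
  rw [Subgroup.map_le_iff_le_comap]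
  refine (Subgroup.closure_le _).2 ?_
  rintro x ⟨⟨hxT, hxC⟩, hxp⟩
  refine Subgroup.subset_closure ⟨⟨Subgroup.mem_map_of_mem _ hxT, ?_⟩, ?_⟩
  · rintro _ ⟨y, hy, rfl⟩
    rw [← map_mul, ← map_mul, Subgroup.mem_centralizer_iff.1 hxC y hy]
  · rw [← map_pow, hxp, map_one]

omit [Fact p.Prime] in
theorem omegaZ_le (T : Subgroup X) : omegaZ p T ≤ T ⊓ Subgroup.centralizer (T : Set X) :=
  (Subgroup.closure_le _).2 fun _ hx => hx.1

theorem omegaZ_le_sylowCenterClosure {T H : Subgroup X} [Finite H] (h : IsSylowIn p T H) :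
    omegaZ p T ≤ sylowCenterClosure p H := by
  obtain ⟨S, rfl⟩ := h.exists_sylow
  exact le_iSup (fun S : Sylow p H => omegaZ p ((S : Subgroup H).map H.subtype)) S

theorem sylowCenterClosure_le {H K : Subgroup X} [Finite H]
    (h : ∀ T, IsSylowIn p T H → omegaZ p T ≤ K) : sylowCenterClosure p H ≤ K :=
  iSup_le fun S => h _ (isSylowIn_of_sylow S)

theorem sylowCenterClosure_le_self (H : Subgroup X) [Finite H] : sylowCenterClosure p H ≤ H :=
  sylowCenterClosure_le fun T hT => ((omegaZ_le T).trans inf_le_left).trans hT.1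

theorem le_normalizer_sylowCenterClosure (H : Subgroup X) [Finite H] :
    H ≤ Subgroup.normalizer (sylowCenterClosure p H : Set X) := by
  rw [Subgroup.le_normalizer_iff]
  intro g hg
  suffices hs : sylowCenterClosure p H ≤ (sylowCenterClosure p H).comap (MulAut.conj g).toMonoidHom from
    fun k hk => hs hk
  refine sylowCenterClosure_le fun T hT => ?_
  rw [← Subgroup.map_le_iff_le_comap]
  refine (map_omegaZ_le (MulAut.conj g) T).trans (omegaZ_le_sylowCenterClosure ?_)
  have hH : H.map (MulAut.conj g).toMonoidHom = H :=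
    Subgroup.mem_normalizer_iff_map_conj_eq.1 (Subgroup.le_normalizer hg)
  have := hT.map (MulAut.conj g)
  rwa [hH] at this

omit [Fact p.Prime] in
theorem pElementClosure_le (H : Subgroup X) : pElementClosure p H ≤ H :=
  (Subgroup.closure_le _).2 fun _ hx => hx.1

omit [Fact p.Prime] in
theorem le_normalizer_pElementClosure (H : Subgroup X) :
    H ≤ Subgroup.normalizer (pElementClosure p H : Set X) := by
  refine Subgroup.le_normalizer_closure_iff.2 fun h hh x hx => Subgroup.subset_closure ?_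
  refine ⟨H.mul_mem (H.mul_mem hh hx.1) (H.inv_mem hh), ?_⟩
  have := orderOf_injective (MulAut.conj h).toMonoidHom (MulAut.conj h).injective x
  simp only [MulEquiv.coe_toMonoidHom, MulAut.conj_apply] at this
  rw [this]; exact hx.2

theorem le_pElementClosure {T H : Subgroup X} (hT : T ≤ H) (hp : IsPGroup p T) :
    T ≤ pElementClosure p H := fun x hx => Subgroup.subset_closure ⟨hT hx, by
  obtain ⟨k, hk⟩ := IsPGroup.iff_orderOf.1 hp ⟨x, hx⟩
  exact ⟨k, by rwa [Subgroup.orderOf_mk] at hk⟩⟩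

/-! ### Amalgam pairs of characteristic `p` -/

variable (h : IsCharPAmalgamPair p M₁ M₂)
include h

omit [Fact p.Prime] in
theorem finite_stabilizer (v : CosetVertex M₁ M₂) : Finite (stabilizer X v) := by
  have := h.2.1
  have := h.2.2.1
  rcases v with q | q <;> induction q using QuotientGroup.induction_on with | H x => ?_
  · rw [← smul_baseL, stabilizer_smul', stabilizer_baseL]
    exact Finite.of_surjective _ (MonoidHom.subgroupMap_surjective _ M₁)
  · rw [← smul_baseR, stabilizer_smul', stabilizer_baseR]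
    exact Finite.of_surjective _ (MonoidHom.subgroupMap_surjective _ M₂)

omit [Fact p.Prime] in
theorem finite_edgeStabilizer (v w : CosetVertex M₁ M₂) : Finite (edgeStabilizer v w) := by
  have := finite_stabilizer h v
  exact Finite.of_injective _ (Subgroup.inclusion_injective (H := edgeStabilizer v w) inf_le_left)

theorem factorization_base :
    (Nat.card ↥(M₁ ⊓ M₂)).factorization p = (Nat.card M₁).factorization p ∧
      (Nat.card ↥(M₁ ⊓ M₂)).factorization p = (Nat.card M₂).factorization p := by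
  have := h.2.1
  have := h.2.2.1
  have : Finite ↥(M₁ ⊓ M₂) :=
    Finite.of_injective _ (Subgroup.inclusion_injective (H := M₁ ⊓ M₂) inf_le_left)
  obtain ⟨S⟩ : Nonempty (Sylow p ↥(M₁ ⊓ M₂)) := inferInstance
  obtain ⟨P₁⟩ : Nonempty (Sylow p M₁) := inferInstance
  obtain ⟨P₂⟩ : Nonempty (Sylow p M₂) := inferInstance
  obtain ⟨e₁, e₂⟩ := h.2.2.2.2.2.1 S P₁ P₂
  have h2 : 2 ≤ p := (Fact.out : p.Prime).two_le
  rw [S.card_eq_multiplicity, P₁.card_eq_multiplicity] at e₁
  rw [S.card_eq_multiplicity, P₂.card_eq_multiplicity] at e₂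
  exact ⟨Nat.pow_right_injective h2 e₁, Nat.pow_right_injective h2 e₂⟩

/-- A Sylow subgroup of an edge stabilizer is Sylow in the vertex stabilizer. -/
theorem isSylowIn_vertex {δ μ : CosetVertex M₁ M₂} (hadj : (cosetGraph M₁ M₂).Adj δ μ)
    {T : Subgroup X} (hT : IsSylowIn p T (edgeStabilizer δ μ)) : IsSylowIn p T (stabilizer X δ) := by
  refine ⟨hT.1.trans inf_le_left, hT.2.trans ?_⟩
  congr 1
  obtain ⟨x, ⟨rfl, rfl⟩ | ⟨rfl, rfl⟩⟩ := adj_iff.1 hadj
  · rw [edgeStabilizer_smul, stabilizer_smul', edgeStabilizer_base, stabilizer_baseL,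
      Subgroup.card_map_of_injective (MulAut.conj x).injective,
      Subgroup.card_map_of_injective (MulAut.conj x).injective]
    exact (factorization_base h).1
  · rw [edgeStabilizer_smul, stabilizer_smul', edgeStabilizer_base', stabilizer_baseR,
      Subgroup.card_map_of_injective (MulAut.conj x).injective,
      Subgroup.card_map_of_injective (MulAut.conj x).injective]
    exact (factorization_base h).2

theorem exists_sylowIn_edge (δ μ : CosetVertex M₁ M₂) :
    ∃ T : Subgroup X, IsSylowIn p T (edgeStabilizer δ μ) := by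
  have := finite_edgeStabilizer h δ μ
  obtain ⟨S⟩ : Nonempty (Sylow p ↥(edgeStabilizer δ μ)) := inferInstance
  exact ⟨_, isSylowIn_of_sylow S⟩

omit [Fact p.Prime] in
/-- Each vertex stabilizer has characteristic `p`. -/
theorem centralizer_le_vertexQ (δ : CosetVertex M₁ M₂) :
    stabilizer X δ ⊓ Subgroup.centralizer (vertexQ p δ : Set X) ≤ vertexQ p δ := by
  have base : ∀ M : Subgroup X, Subgroup.centralizer (pCore p M : Set M) ≤ pCore p M →
      M ⊓ Subgroup.centralizer (pCoreOf p M : Set X) ≤ pCoreOf p M := by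
    rintro M hM x ⟨hx, hxC⟩
    refine Subgroup.mem_map.2 ⟨⟨x, hx⟩, hM ?_, rfl⟩
    intro y hy
    exact Subtype.ext (Subgroup.mem_centralizer_iff.1 hxC y (Subgroup.mem_map_of_mem _ hy))
  have transport : ∀ (g : X) (M : Subgroup X),
      M ⊓ Subgroup.centralizer (pCoreOf p M : Set X) ≤ pCoreOf p M →
      M.map (MulAut.conj g).toMonoidHom ⊓
          Subgroup.centralizer (pCoreOf p (M.map (MulAut.conj g).toMonoidHom) : Set X) ≤
        pCoreOf p (M.map (MulAut.conj g).toMonoidHom) := by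
    intro g M hM x hx
    rw [pCoreOf_map] at hx ⊢
    obtain ⟨⟨y, hy, rfl⟩, hxC⟩ := hx
    refine Subgroup.mem_map_of_mem _ (hM ⟨hy, fun z hz => ?_⟩)
    apply (MulAut.conj g).injective
    rw [map_mul, map_mul]
    exact Subgroup.mem_centralizer_iff.1 hxC _ (Subgroup.mem_map_of_mem _ hz)
  rcases δ with q | q <;> induction q using QuotientGroup.induction_on with | H x => ?_
  · simp only [vertexQ]
    rw [← smul_baseL, stabilizer_smul', stabilizer_baseL]
    exact transport x M₁ (base M₁ h.2.2.2.2.2.2.1)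
  · simp only [vertexQ]
    rw [← smul_baseR, stabilizer_smul', stabilizer_baseR]
    exact transport x M₂ (base M₂ h.2.2.2.2.2.2.2)

theorem vertexQ_le_neighbourKernel (δ : CosetVertex M₁ M₂) : vertexQ p δ ≤ neighbourKernel δ := by
  have := finite_stabilizer h δ
  refine le_inf (pCoreOf_le _) (le_iInf₂ fun μ hμ => ?_)
  obtain ⟨T, hT⟩ := exists_sylowIn_edge h δ μ
  exact ((isSylowIn_vertex h hμ hT).pCoreOf_le).trans (hT.1.trans inf_le_right)

theorem vertexZ_le_vertexQ (δ : CosetVertex M₁ M₂) : vertexZ p δ ≤ vertexQ p δ := by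
  have := finite_stabilizer h δ
  refine sylowCenterClosure_le fun T hT => le_trans ?_ (centralizer_le_vertexQ h δ)
  refine le_inf (((omegaZ_le T).trans inf_le_left).trans hT.1) ?_
  exact ((omegaZ_le T).trans inf_le_right).trans (Subgroup.centralizer_le hT.pCoreOf_le)

theorem vertexZ_le_neighbourKernel (δ : CosetVertex M₁ M₂) : vertexZ p δ ≤ neighbourKernel δ :=
  (vertexZ_le_vertexQ h δ).trans (vertexQ_le_neighbourKernel h δ)

omit [Fact p.Prime] h in
theorem vertexZ_le_of_dist_lt {δ μ : CosetVertex M₁ M₂}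
    (hd : (cosetGraph M₁ M₂).dist δ μ < criticalDistance p M₁ M₂) :
    vertexZ p δ ≤ neighbourKernel μ := by
  by_contra hc
  exact Nat.notMem_of_lt_sInf hd ⟨δ, μ, rfl, hc⟩

omit [Fact p.Prime] h in
theorem neighbourKernel_le_stabilizer {δ μ : CosetVertex M₁ M₂}
    (hμ : (cosetGraph M₁ M₂).Adj δ μ) : neighbourKernel δ ≤ stabilizer X μ :=
  inf_le_right.trans (iInf₂_le μ hμ)

/-- In a critical pair, some neighbour of `α` is strictly closer to `α'`. -/
theorem exists_adj_dist {α α' : CosetVertex M₁ M₂} (hc : IsCriticalPair p α α') :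
    ∃ β, (cosetGraph M₁ M₂).Adj α β ∧
      (cosetGraph M₁ M₂).dist β α' < criticalDistance p M₁ M₂ := by
  obtain ⟨w, hw⟩ := (connected h.1.1).exists_walk_length_eq_dist α α'
  cases w with
  | nil => exact absurd (vertexZ_le_neighbourKernel h α) hc.1
  | cons hadj w' =>
    refine ⟨_, hadj, ?_⟩
    rw [← hc.2, ← hw, SimpleGraph.Walk.length_cons]
    exact Nat.lt_succ_of_le (SimpleGraph.dist_le w')

/-- In a critical pair, some neighbour of `α'` is strictly closer to `α`. -/
theorem exists_adj_dist' {α α' : CosetVertex M₁ M₂} (hc : IsCriticalPair p α α') :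
    ∃ γ, (cosetGraph M₁ M₂).Adj γ α' ∧
      (cosetGraph M₁ M₂).dist α γ < criticalDistance p M₁ M₂ := by
  obtain ⟨w, hw⟩ := (connected h.1.1).exists_walk_length_eq_dist α' α
  cases w with
  | nil => exact absurd (vertexZ_le_neighbourKernel h α) hc.1
  | cons hadj w' =>
    refine ⟨_, hadj.symm, ?_⟩
    rw [← hc.2, SimpleGraph.dist_comm, SimpleGraph.dist_comm (u := α), ← hw,
      SimpleGraph.Walk.length_cons]
    exact Nat.lt_succ_of_le (SimpleGraph.dist_le w')

end Cfsg.Agent.Amalgam
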