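import Cfsg.Agent.Lib.Amalgam.CosetGraph
import Cfsg.Agent.Lib.Coprime.PQ
import Cfsg.Agent.Lib.Cores.Basic
import Cfsg.Agent.Lib.PReduced.Tools

/-!
# Iterated closures `V^{(k)}` on the coset graph

* `vertexVIter_le_of_dist`, `le_normalizer_vertexVIter`, `exists_adj_dist_pred`.
* `false_of_residual_normalizes`: `O^p(L_δ)` cannot normalize a subgroup `W` with `Z_μ ≤ W ≤ G_δ` normalized
  by `G_μ`, `μ` adjacent to `δ`.
* `residual_normalizes_of_centralizes_mod`: the reduction used for `V^{(n)}/[V^{(n)},Q]`.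
-/

set_option autoImplicit false

namespace Cfsg.Agent.Amalgam

open MulAction
open scoped commutatorElement

variable {X : Type*} [Group X] {M₁ M₂ : Subgroup X} {p : ℕ}

theorem dist_smul_le (hc : (cosetGraph M₁ M₂).Connected) (g : X) (a b : CosetVertex M₁ M₂) :
    (cosetGraph M₁ M₂).dist (g • a) (g • b) ≤ (cosetGraph M₁ M₂).dist a b := by
  obtain ⟨w, hw⟩ := hc.exists_walk_length_eq_dist a b
  let f : cosetGraph M₁ M₂ →g cosetGraph M₁ M₂ := ⟨fun v => g • v, fun h => adj_smul g h⟩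
  have h := SimpleGraph.dist_le (w.map f)
  rw [SimpleGraph.Walk.length_map, hw] at h
  exact h

theorem map_conj_inv_map {G : Type*} [Group G] (g : G) (H : Subgroup G) :
    (H.map (MulAut.conj g⁻¹).toMonoidHom).map (MulAut.conj g).toMonoidHom = H := by
  rw [Subgroup.map_map, show (MulAut.conj g).toMonoidHom.comp (MulAut.conj g⁻¹).toMonoidHom =
    MonoidHom.id G from MonoidHom.ext fun x => by simp [mul_assoc], Subgroup.map_id]

variable [Fact p.Prime]

theorem vertexZ_smul_le (h : IsCharPAmalgamPair p M₁ M₂) (g : X) (v : CosetVertex M₁ M₂) :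
    vertexZ p (g • v) ≤ (vertexZ p v).map (MulAut.conj g).toMonoidHom := by
  have := finite_stabilizer h v
  have := finite_stabilizer h (g • v)
  refine sylowCenterClosure_le fun T hT => ?_
  have hT' : IsSylowIn p (T.map (MulAut.conj g⁻¹).toMonoidHom) (stabilizer X v) := by
    have := hT.map (MulAut.conj g⁻¹)
    rwa [← stabilizer_smul', inv_smul_smul] at this
  have h1 := map_omegaZ_le (p := p) (MulAut.conj g) (T.map (MulAut.conj g⁻¹).toMonoidHom)
  have h2 := map_omegaZ_le (p := p) (MulAut.conj g⁻¹) T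
  calc omegaZ p T = ((omegaZ p T).map (MulAut.conj g⁻¹).toMonoidHom).map (MulAut.conj g).toMonoidHom :=
        (map_conj_inv_map g _).symm
    _ ≤ (omegaZ p (T.map (MulAut.conj g⁻¹).toMonoidHom)).map (MulAut.conj g).toMonoidHom :=
        Subgroup.map_mono h2
    _ ≤ _ := Subgroup.map_mono (omegaZ_le_sylowCenterClosure hT')

theorem conj_mem_vertexZ (h : IsCharPAmalgamPair p M₁ M₂) (g : X) (v : CosetVertex M₁ M₂) {x : X}
    (hx : x ∈ vertexZ p v) : g * x * g⁻¹ ∈ vertexZ p (g • v) := by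
  have h1 : x ∈ (vertexZ p (g • v)).map (MulAut.conj g⁻¹).toMonoidHom := by
    have := vertexZ_smul_le h g⁻¹ (g • v)
    rw [inv_smul_smul] at this
    exact this hx
  obtain ⟨y, hy, rfl⟩ := h1
  simpa [mul_assoc] using hy

omit [Fact p.Prime] in
theorem le_vertexVIter {n : ℕ} {δ ν : CosetVertex M₁ M₂}
    (hν : (cosetGraph M₁ M₂).dist δ ν ≤ n) : vertexZ p ν ≤ vertexVIter p M₁ M₂ n δ :=
  le_iSup_of_le (ι := {μ : CosetVertex M₁ M₂ // (cosetGraph M₁ M₂).dist δ μ ≤ n}) ⟨ν, hν⟩ le_rfl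

omit [Fact p.Prime] in
theorem vertexVIter_le_of_dist (hc : (cosetGraph M₁ M₂).Connected) {m n : ℕ}
    {δ μ : CosetVertex M₁ M₂} (h : (cosetGraph M₁ M₂).dist δ μ + m ≤ n) :
    vertexVIter p M₁ M₂ m μ ≤ vertexVIter p M₁ M₂ n δ :=
  iSup_le fun ν => le_vertexVIter ((hc.dist_triangle (v := μ)).trans (by have := ν.2; omega))

theorem conj_mem_vertexVIter (h : IsCharPAmalgamPair p M₁ M₂) (g : X) {n : ℕ}
    (v : CosetVertex M₁ M₂) {x : X} (hx : x ∈ vertexVIter p M₁ M₂ n v) :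
    g * x * g⁻¹ ∈ vertexVIter p M₁ M₂ n (g • v) := by
  have hle : vertexVIter p M₁ M₂ n v ≤
      (vertexVIter p M₁ M₂ n (g • v)).comap (MulAut.conj g).toMonoidHom :=
    iSup_le fun ν x hx => le_vertexVIter ((dist_smul_le (connected h.1.1) g v ν).trans ν.2)
      (conj_mem_vertexZ h g _ hx)
  exact hle hx

theorem le_normalizer_vertexVIter (h : IsCharPAmalgamPair p M₁ M₂) (n : ℕ)
    (v : CosetVertex M₁ M₂) :
    stabilizer X v ≤ Subgroup.normalizer (vertexVIter p M₁ M₂ n v : Set X) :=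
  Subgroup.le_normalizer_iff.mpr fun g hg x hx => by
    have := conj_mem_vertexVIter h g v hx
    rwa [mem_stabilizer_iff.mp hg] at this

omit [Fact p.Prime] in
theorem exists_adj (δ : CosetVertex M₁ M₂) : ∃ μ, (cosetGraph M₁ M₂).Adj δ μ := by
  rcases δ with q | q <;> induction q using QuotientGroup.induction_on with | H x => ?_
  · exact ⟨Sum.inr (x : X ⧸ M₂), adj_iff.2 ⟨x, .inl ⟨(smul_baseL x).symm, (smul_baseR x).symm⟩⟩⟩
  · exact ⟨Sum.inl (x : X ⧸ M₁), adj_iff.2 ⟨x, .inr ⟨(smul_baseR x).symm, (smul_baseL x).symm⟩⟩⟩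

omit [Fact p.Prime] in
theorem exists_adj_dist_pred (hc : (cosetGraph M₁ M₂).Connected) {δ ν : CosetVertex M₁ M₂}
    (hne : δ ≠ ν) : ∃ μ, (cosetGraph M₁ M₂).Adj δ μ ∧
      (cosetGraph M₁ M₂).dist μ ν + 1 ≤ (cosetGraph M₁ M₂).dist δ ν := by
  obtain ⟨w, hw⟩ := hc.exists_walk_length_eq_dist δ ν
  cases w with
  | nil => exact absurd rfl hne
  | cons hadj w' =>
    refine ⟨_, hadj, ?_⟩
    rw [← hw, SimpleGraph.Walk.length_cons]
    have := SimpleGraph.dist_le w'
    omega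

theorem vertexZ_ne_bot (h : IsCharPAmalgamPair p M₁ M₂) (δ : CosetVertex M₁ M₂) :
    vertexZ p δ ≠ ⊥ := by
  have hp := Fact.out (p := p.Prime)
  have := finite_stabilizer h δ
  intro hbot
  obtain ⟨S⟩ : Nonempty (Sylow p ↥(stabilizer X δ)) := inferInstance
  set T : Subgroup X := (S : Subgroup ↥(stabilizer X δ)).map (stabilizer X δ).subtype with hT
  have hdvd : p ∣ Nat.card (stabilizer X δ) := by
    have := h.2.1
    have := h.2.2.1
    rcases δ with q | q <;> induction q using QuotientGroup.induction_on with | H x => ?_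
    · rw [← smul_baseL, stabilizer_smul', stabilizer_baseL,
        Subgroup.card_map_of_injective (MulAut.conj x).injective]
      exact h.2.2.2.1
    · rw [← smul_baseR, stabilizer_smul', stabilizer_baseR,
        Subgroup.card_map_of_injective (MulAut.conj x).injective]
      exact h.2.2.2.2.1
  haveI : Nontrivial S := (Subgroup.nontrivial_iff_ne_bot _).mpr (S.ne_bot_of_dvd_card hdvd)
  haveI := S.isPGroup'.center_nontrivial
  obtain ⟨n, hn, hc⟩ := (S.isPGroup'.to_subgroup (Subgroup.center S)).nontrivial_iff_card.mp this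
  obtain ⟨z, hz⟩ := exists_prime_orderOf_dvd_card' (G := Subgroup.center S) p (hc ▸ dvd_pow_self p hn.ne')
  have hz' : orderOf (((z : S) : stabilizer X δ) : X) = p := by
    rw [Subgroup.orderOf_coe, Subgroup.orderOf_coe, Subgroup.orderOf_coe]; exact hz
  have hmem : (((z : S) : stabilizer X δ) : X) ∈ omegaZ p T := by
    refine Subgroup.subset_closure ⟨⟨⟨_, (z : S).2, rfl⟩, ?_⟩, ?_⟩
    · rintro _ ⟨s, hs, rfl⟩
      exact congrArg (fun u : S => ((u : stabilizer X δ) : X))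
        (Subgroup.mem_center_iff.mp z.2 ⟨s, hs⟩)
    · have e := pow_orderOf_eq_one (((z : S) : stabilizer X δ) : X)
      rwa [hz'] at e
  have hmem' := omegaZ_le_sylowCenterClosure (isSylowIn_of_sylow S) hmem
  rw [show sylowCenterClosure p (stabilizer X δ) = ⊥ from hbot, Subgroup.mem_bot] at hmem'
  rw [hmem', orderOf_one] at hz'
  exact hp.ne_one hz'.symm

/-- `N(T)` in a vertex stabilizer, `T` Sylow in an edge stabilizer, lies in that edge stabilizer. -/
theorem normalizer_inf_le_edge (h : IsSpeAmalgamPair p M₁ M₂) {δ μ : CosetVertex M₁ M₂}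
    (hadj : (cosetGraph M₁ M₂).Adj δ μ) {T : Subgroup X} (hT : IsSylowIn p T (edgeStabilizer δ μ)) :
    stabilizer X δ ⊓ Subgroup.normalizer (T : Set X) ≤ edgeStabilizer δ μ := by
  have := h.1.2.1
  haveI : Finite ↥(M₁ ⊓ M₂) :=
    Finite.of_injective _ (Subgroup.inclusion_injective (H := M₁ ⊓ M₂) inf_le_left)
  have base : ∀ S : Subgroup X, IsSylowIn p S (M₁ ⊓ M₂) →
      (M₁ ⊓ Subgroup.normalizer (S : Set X) ≤ M₁ ⊓ M₂) ∧
        (M₂ ⊓ Subgroup.normalizer (S : Set X) ≤ M₁ ⊓ M₂) := by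
    intro S hS
    obtain ⟨P, rfl⟩ := hS.exists_sylow
    exact ⟨(h.2.1 P).2, (h.2.1 P).1 ▸ (h.2.1 P).2⟩
  have transport : ∀ (x : X) (v w : CosetVertex M₁ M₂) (A : Subgroup X), stabilizer X v = A →
      edgeStabilizer v w = M₁ ⊓ M₂ →
      (∀ S : Subgroup X, IsSylowIn p S (M₁ ⊓ M₂) → A ⊓ Subgroup.normalizer (S : Set X) ≤ M₁ ⊓ M₂) →
      ∀ T : Subgroup X, IsSylowIn p T (edgeStabilizer (x • v) (x • w)) →
      stabilizer X (x • v) ⊓ Subgroup.normalizer (T : Set X) ≤ edgeStabilizer (x • v) (x • w) := by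
    intro x v w A hA he hb T hT
    have hT' : IsSylowIn p (T.map (MulAut.conj x⁻¹).toMonoidHom) (M₁ ⊓ M₂) := by
      have := hT.map (MulAut.conj x⁻¹)
      rwa [← edgeStabilizer_smul, inv_smul_smul, inv_smul_smul, he] at this
    intro g hg
    rw [edgeStabilizer_smul, he]
    refine ⟨x⁻¹ * g * x, hb _ hT' (Subgroup.mem_inf.mpr ⟨?_, ?_⟩), by simp [mul_assoc]⟩
    · rw [← hA, mem_stabilizer_iff, mul_smul, mul_smul, mem_stabilizer_iff.mp hg.1, inv_smul_smul]
    · rw [← Subgroup.map_normalizer_eq_of_bijective _ (MulAut.conj x⁻¹).bijective]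
      exact ⟨g, hg.2, by simp⟩
  obtain ⟨x, ⟨rfl, rfl⟩ | ⟨rfl, rfl⟩⟩ := adj_iff.1 hadj
  · exact transport x _ _ M₁ stabilizer_baseL edgeStabilizer_base (fun S hS => (base S hS).1) T hT
  · exact transport x _ _ M₂ stabilizer_baseR edgeStabilizer_base' (fun S hS => (base S hS).2) T hT

/-- `O^p(L_δ)`, as a subgroup of `X`. -/
abbrev residual (p : ℕ) (δ : CosetVertex M₁ M₂) : Subgroup X :=
  (Cfsg.pResidual p ↥(pElementClosure p (stabilizer X δ))).map
    (pElementClosure p (stabilizer X δ)).subtype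

/-- A subgroup normalized by `O^p(L_δ)` and by an edge stabilizer at `δ` is normalized by `G_δ`. -/
theorem stabilizer_le_normalizer (h : IsSpeAmalgamPair p M₁ M₂) {δ μ : CosetVertex M₁ M₂}
    (hadj : (cosetGraph M₁ M₂).Adj δ μ) {W : Subgroup X}
    (hR : residual p δ ≤ Subgroup.normalizer (W : Set X))
    (hE : edgeStabilizer δ μ ≤ Subgroup.normalizer (W : Set X)) :
    stabilizer X δ ≤ Subgroup.normalizer (W : Set X) := by
  set K : Subgroup X := stabilizer X δ with hK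
  haveI := finite_stabilizer h.1 δ
  obtain ⟨T, hT⟩ := exists_sylowIn_edge h.1 δ μ
  have hTK := isSylowIn_vertex h.1 hadj hT
  set L : Subgroup X := pElementClosure p K with hL
  have hLK : L ≤ K := pElementClosure_le K
  haveI : Finite L := Finite.of_injective _ (Subgroup.inclusion_injective hLK)
  have hTL : T ≤ L := le_pElementClosure hTK.1 hTK.isPGroup
  obtain ⟨S, hS⟩ := hTK.exists_sylow
  haveI : (L.subgroupOf K).Normal :=
    Cfsg.Agent.Cores.subgroupOf_normal_of_le_normalizer (le_normalizer_pElementClosure K)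
  haveI : Finite ↥(L.subgroupOf K) := inferInstance
  have hSL : (S : Subgroup K) ≤ L.subgroupOf K := fun s hs =>
    Subgroup.mem_subgroupOf.mpr (hTL (hS ▸ ⟨s, hs, rfl⟩))
  intro g hg
  have hfr : (⟨g, hg⟩ : K) ∈ ((Subgroup.normalizer (S : Set K) ⊔ L.subgroupOf K :
      Subgroup K) : Set K) := by
    rw [S.normalizer_sup_eq_top' hSL]; trivial
  rw [Subgroup.mul_normal] at hfr
  obtain ⟨a, ha, l, hl, hal⟩ := hfr
  have haT : (a : X) ∈ K ⊓ Subgroup.normalizer (T : Set X) := by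
    refine Subgroup.mem_inf.mpr ⟨a.2, ?_⟩
    rw [Subgroup.mem_normalizer_iff]
    intro t
    have hiff := Subgroup.mem_normalizer_iff.mp ha
    constructor
    · intro ht
      obtain ⟨s, hs, rfl⟩ := hS.symm ▸ ht
      exact hS ▸ ⟨_, (hiff s).mp hs, rfl⟩
    · intro ht
      obtain ⟨s, hs, hst⟩ := hS.symm ▸ ht
      have htK : t ∈ K := by
        have : (a : X)⁻¹ * ((a : X) * t * (a : X)⁻¹) * (a : X) ∈ K := by
          rw [← hst]; exact K.mul_mem (K.mul_mem (K.inv_mem a.2) s.2) a.2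
        simpa [mul_assoc] using this
      have hs' : s = a * ⟨t, htK⟩ * a⁻¹ := Subtype.ext hst
      exact hS ▸ ⟨_, (hiff ⟨t, htK⟩).mpr (hs' ▸ hs), rfl⟩
  have haW : (a : X) ∈ Subgroup.normalizer (W : Set X) := hE (normalizer_inf_le_edge h hadj hT haT)
  have hTlL : IsPGroup p (T.subgroupOf L) :=
    hTK.isPGroup.of_equiv (Subgroup.subgroupOfEquivOfLe hTL).symm
  obtain ⟨P, hP⟩ := hTlL.exists_le_sylow
  obtain ⟨r, hr, t, ht, hrt⟩ :=
    Cfsg.Agent.PReduced.exists_eq_mul_of_pResidual P ⟨(l : X), Subgroup.mem_subgroupOf.mp hl⟩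
  have hPT : (t : X) ∈ T := by
    have hle : T ≤ (P : Subgroup L).map L.subtype := fun x hx =>
      ⟨⟨x, hTL hx⟩, hP (Subgroup.mem_subgroupOf.mpr hx), rfl⟩
    have heq : T = (P : Subgroup L).map L.subtype := by
      have h1 : (P : Subgroup L).map L.subtype ≤ K := (Subgroup.map_subtype_le _).trans hLK
      have h2 := S.is_maximal' ((P.isPGroup'.map L.subtype).of_equiv
        (Subgroup.subgroupOfEquivOfLe h1).symm) (fun s hs => Subgroup.mem_subgroupOf.mpr
          (hle (hS ▸ ⟨s, hs, rfl⟩)))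
      refine le_antisymm hle fun x hx => ?_
      rw [← hS]
      exact ⟨⟨x, h1 hx⟩, h2 ▸ Subgroup.mem_subgroupOf.mpr hx, rfl⟩
    rw [heq]; exact ⟨t, ht, rfl⟩
  have hlW : (l : X) ∈ Subgroup.normalizer (W : Set X) := by
    have : (l : X) = (r : X) * (t : X) := congrArg Subtype.val hrt
    rw [this]
    exact mul_mem (hR ⟨r, hr, rfl⟩) (hE (hT.1 hPT))
  have hgeq : g = (a : X) * (l : X) := (congrArg Subtype.val hal).symm
  rw [hgeq]; exact mul_mem haW hlW

/-- `O^p(L_δ)` normalizes no subgroup between `Z_μ` and `G_δ` that is normalized by `G_μ`. -/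
theorem false_of_residual_normalizes (h : IsSpeAmalgamPair p M₁ M₂) {δ μ : CosetVertex M₁ M₂}
    (hadj : (cosetGraph M₁ M₂).Adj δ μ) {W : Subgroup X} (hZ : vertexZ p μ ≤ W)
    (hW : W ≤ edgeStabilizer δ μ)
    (hμ : stabilizer X μ ≤ Subgroup.normalizer (W : Set X))
    (hR : residual p δ ≤ Subgroup.normalizer (W : Set X)) : False := by
  have hδ := stabilizer_le_normalizer h hadj hR (inf_le_right.trans hμ)
  have hW1 : W = ⊥ := eq_bot_of_transitive h.1.1.1 h.1.1.2.2.2 hadj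
    (H := stabilizer X δ ⊔ stabilizer X μ) (sup_le hδ hμ) hW
    (fun ν ν' h1 h2 => by
      obtain ⟨g, hg, hgν⟩ := exists_mem_stabilizer_smul_eq h1 h2
      exact ⟨g, ⟨Subgroup.mem_sup_left hg, hg⟩, hgν⟩)
    (fun ν ν' h1 h2 => by
      obtain ⟨g, hg, hgν⟩ := exists_mem_stabilizer_smul_eq h1 h2
      exact ⟨g, ⟨Subgroup.mem_sup_right hg, hg⟩, hgν⟩)
  exact vertexZ_ne_bot h.1 μ (le_bot_iff.mp (hW1 ▸ hZ))

theorem normalizes_of_commutator_le {R W : Subgroup X} (h : ⁅W, R⁆ ≤ W) :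
    R ≤ Subgroup.normalizer (W : Set X) :=
  Subgroup.le_normalizer_iff.mpr fun r hr w hw => by
    have h1 := h (Subgroup.commutator_mem_commutator hw hr)
    rw [commutatorElement_def] at h1
    have h2 := W.inv_mem (W.mul_mem (W.inv_mem hw) h1)
    have h3 : r * w * r⁻¹ = (w⁻¹ * (w * r * w⁻¹ * r⁻¹))⁻¹ := by group
    rw [h3]; exact h2

theorem not_centralizes_mod_commutator (h : IsSpeAmalgamPair p M₁ M₂) (δ : CosetVertex M₁ M₂)
    (n : ℕ) (hn : 1 ≤ n) (hVQ : vertexVIter p M₁ M₂ n δ ≤ vertexQ p δ) :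
    ¬ ⁅vertexVIter p M₁ M₂ n δ, residual p δ⁆ ≤ ⁅vertexVIter p M₁ M₂ n δ, vertexQ p δ⁆ := by
  intro hR
  set G := cosetGraph M₁ M₂ with hG
  have hc := connected h.1.1.1
  set V : Subgroup X := vertexVIter p M₁ M₂ n δ with hV
  set Q : Subgroup X := vertexQ p δ with hQ
  set K : Subgroup X := stabilizer X δ with hK
  haveI := finite_stabilizer h.1 δ
  have hQK : Q ≤ K := pCoreOf_le K
  have hKV : K ≤ Subgroup.normalizer (V : Set X) := le_normalizer_vertexVIter h.1 n δ
  have hKQ : K ≤ Subgroup.normalizer (Q : Set X) := le_normalizer_pCoreOf K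
  haveI : Finite Q := Finite.of_injective _ (Subgroup.inclusion_injective hQK)
  haveI : Finite V := Finite.of_injective _ (Subgroup.inclusion_injective hVQ)
  have hQnil : Group.IsNilpotent Q := (pCoreOf_isPGroup (p := p) K).isNilpotent
  obtain ⟨μ, hadj⟩ := exists_adj δ
  have hdμ : G.dist δ μ = 1 := SimpleGraph.dist_eq_one_iff_adj.mpr hadj
  set W : Subgroup X := vertexVIter p M₁ M₂ (n - 1) μ with hW
  have hWV : W ≤ V := vertexVIter_le_of_dist hc (by rw [hdμ]; omega)
  have hQE : Q ≤ edgeStabilizer δ μ := by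
    have := vertexQ_le_neighbourKernel h.1 δ
    refine le_inf hQK (this.trans ?_)
    exact inf_le_right.trans (iInf₂_le μ hadj)
  have hμW : stabilizer X μ ≤ Subgroup.normalizer (W : Set X) := le_normalizer_vertexVIter h.1 _ μ
  have hQW : Q ≤ Subgroup.normalizer (W : Set X) := hQE.trans (inf_le_right.trans hμW)
  -- `[Z_δ, Q] = 1`
  have hZQ : vertexZ p δ ≤ Subgroup.centralizer (Q : Set X) :=
    sylowCenterClosure_le fun T hT =>
      ((omegaZ_le T).trans inf_le_right).trans (Subgroup.centralizer_le hT.pCoreOf_le)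
  -- covering
  have hcover : ∀ U : Subgroup X, K ≤ Subgroup.normalizer (U : Set X) → W ≤ U → V ≤ vertexZ p δ ⊔ U := by
    intro U hU hWU
    refine iSup_le fun ν => ?_
    by_cases hν : δ = (ν : CosetVertex M₁ M₂)
    · rw [← hν]; exact le_sup_left
    obtain ⟨μ', hadj', hd⟩ := exists_adj_dist_pred hc hν
    obtain ⟨g, hg, hgμ⟩ := exists_mem_stabilizer_smul_eq hadj' hadj
    refine le_trans ?_ le_sup_right
    intro x hx
    have h1 : x ∈ vertexVIter p M₁ M₂ (n - 1) μ' :=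
      le_vertexVIter (by have := ν.2; omega) hx
    have h2 := hWU (hgμ ▸ conj_mem_vertexVIter h.1 g μ' h1)
    exact (Subgroup.mem_normalizer_iff.mp (hU hg) x).mpr h2
  have hWU1 : V ≤ vertexZ p δ ⊔ (W ⊔ ⁅V, Q⁆) := by
    refine hcover _ ?_ le_sup_left
    refine stabilizer_le_normalizer h hadj (normalizes_of_commutator_le ?_) ?_
    · refine (Subgroup.commutator_mono ?_ le_rfl).trans (hR.trans le_sup_right)
      exact sup_le hWV (Subgroup.le_normalizer_iff_commutator_le_left.mp (hQK.trans hKV))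
    · refine le_trans (le_inf (inf_le_right.trans hμW) ?_) ((Subgroup.normalizer_inf_normalizer_le_normalizer_sup _ _))
      exact inf_le_left.trans (Cfsg.Agent.Coprime.le_normalizer_commutator hKV hKQ)
  -- minimal choice
  obtain ⟨U, ⟨hUQ, hQU, hVU⟩, hmin⟩ : ∃ U : Subgroup X, (U ≤ Q ∧
      Q ≤ Subgroup.normalizer (U : Set X) ∧ ⁅V, Q⁆ ≤ W ⊔ U) ∧
      ∀ U' : Subgroup X, (U' ≤ Q ∧ Q ≤ Subgroup.normalizer (U' : Set X) ∧ ⁅V, Q⁆ ≤ W ⊔ U') →
        Nat.card U ≤ Nat.card U' := by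
    obtain ⟨U, hU, hmin⟩ := Set.exists_min_image
      {U : Subgroup X | U ≤ Q ∧ Q ≤ Subgroup.normalizer (U : Set X) ∧ ⁅V, Q⁆ ≤ W ⊔ U}
      (fun U => Nat.card U)
      (Set.Finite.subset (Set.finite_range (fun A : Subgroup Q => A.map Q.subtype))
        (fun U hU => ⟨U.subgroupOf Q, Subgroup.map_subgroupOf_eq_of_le hU.1⟩))
      ⟨Q, le_rfl, Subgroup.le_normalizer,
        ((Subgroup.commutator_mono hVQ le_rfl).trans
          (Subgroup.commutator_le.mpr fun a ha b hb =>
            Q.mul_mem (Q.mul_mem (Q.mul_mem ha hb) (Q.inv_mem ha)) (Q.inv_mem hb))).trans le_sup_right⟩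
    exact ⟨U, hU, hmin⟩
  have hQM : Q ≤ Subgroup.normalizer ((W ⊔ ⁅U, Q⁆ : Subgroup X) : Set X) :=
    le_trans (le_inf hQW (Cfsg.Agent.Coprime.le_normalizer_commutator hQU Subgroup.le_normalizer))
      (Subgroup.normalizer_inf_normalizer_le_normalizer_sup _ _)
  have hnew : ⁅V, Q⁆ ≤ W ⊔ ⁅U, Q⁆ := by
    set M : Subgroup X := W ⊔ ⁅U, Q⁆ with hM
    have hV' : V ≤ vertexZ p δ ⊔ (W ⊔ U) :=
      hWU1.trans (sup_le le_sup_left (sup_le (le_sup_left.trans le_sup_right)
        (hVU.trans le_sup_right)))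
    have hWQ : W ≤ Q := hWV.trans hVQ
    let C : Subgroup X :=
      { carrier := {v | v ∈ Q ∧ ∀ q ∈ Q, ⁅v, q⁆ ∈ M}
        one_mem' := ⟨Q.one_mem, fun q _ => by rw [commutatorElement_one_left]; exact M.one_mem⟩
        mul_mem' := fun {a b} ha hb => ⟨Q.mul_mem ha.1 hb.1, fun q hq => by
          have h1 : ⁅a * b, q⁆ = a * ⁅b, q⁆ * a⁻¹ * ⁅a, q⁆ := by
            simp only [commutatorElement_def]; group
          rw [h1]
          exact M.mul_mem ((Subgroup.mem_normalizer_iff.mp (hQM ha.1) _).mp (hb.2 q hq)) (ha.2 q hq)⟩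
        inv_mem' := fun {a} ha => ⟨Q.inv_mem ha.1, fun q hq => by
          have h1 : ⁅a⁻¹, q⁆ = a⁻¹ * ⁅a, q⁆⁻¹ * a⁻¹⁻¹ := by
            simp only [commutatorElement_def]; group
          rw [h1]
          exact (Subgroup.mem_normalizer_iff.mp (hQM (Q.inv_mem ha.1)) _).mp (M.inv_mem (ha.2 q hq))⟩ }
    have h1 : vertexZ p δ ⊔ (W ⊔ U) ≤ C := by
      refine sup_le ?_ (sup_le ?_ ?_)
      · intro v hv
        refine ⟨hVQ (le_vertexVIter (by simp) hv), fun q hq => ?_⟩
        rw [commutatorElement_eq_one_iff_mul_comm.mpr (hZQ hv q hq).symm]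
        exact M.one_mem
      · exact fun w hw => ⟨hWQ hw, fun q hq => le_sup_left (a := W)
          (Subgroup.le_normalizer_iff_commutator_le_left.mp hQW
            (Subgroup.commutator_mem_commutator hw hq))⟩
      · exact fun u hu => ⟨hUQ hu, fun q hq => le_sup_right (a := W)
          (Subgroup.commutator_mem_commutator hu hq)⟩
    exact Subgroup.commutator_le.mpr fun v hv q hq => (h1 (hV' hv)).2 q hq
  have hUQU : ⁅U, Q⁆ ≤ U := Subgroup.le_normalizer_iff_commutator_le_left.mp hQU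
  haveI : Finite U := Finite.of_injective _ (Subgroup.inclusion_injective hUQ)
  have hU1 : U = ⊥ := by
    have hle := hmin _ ⟨hUQU.trans hUQ,
      Cfsg.Agent.Coprime.le_normalizer_commutator hQU Subgroup.le_normalizer, hnew⟩
    have := Subgroup.eq_of_le_of_card_ge hUQU hle
    exact Cfsg.Agent.Coprime.eq_bot_of_le_commutator hUQ hQnil this.ge
  rw [hU1, sup_bot_eq] at hVU
  exact false_of_residual_normalizes h hadj
    (le_vertexVIter (p := p) (δ := μ) (n := n - 1) (by simp)) (hWV.trans (hVQ.trans hQE)) hμW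
    (normalizes_of_commutator_le ((Subgroup.commutator_mono hWV le_rfl).trans (hR.trans hVU)))

end Cfsg.Agent.Amalgam
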